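import Groth.Agent.Lib.HomTorus24.Basic
import Groth.Agent.Lib.GaUnits.Basic
import Groth.Agent.Lib.NoTorus14.Basic
import Groth.Agent.Lib.AlbTors16.Main

/-!
# The additive group as the affine line, and morphisms out of it
-/

set_option autoImplicit false
set_option linter.all false
set_option backward.isDefEq.respectTransparency false

universe u

open CategoryTheory CategoryTheory.Limits MonoidalCategory CartesianMonoidalCategory MonObj AlgebraicGeometry
open GrothLib.RedPts GrothLib.HomTorus24 Polynomial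

namespace GrothLib.SemiAb16

variable {k : Type u} [Field k]

local notation "S₀" => Spec (CommRingCat.of k)

/-- A pointed morphism from the additive group to a torus over a field is trivial. -/
theorem pointed_Ga_torus {T : Over S₀} [GrpObj T] (hT : Red.IsTorus T) (g : Red.Ga S₀ ⟶ T) (hg : η[Red.Ga S₀] ≫ g = η[T]) : g = 1 := by
  let G := Red.Ga S₀
  let io := Scheme.ΓSpecIso (CommRingCat.of k[X])
  let ψ : k[X] →+* Γ(G.left, ⊤) := eval₂RingHom (scal G) (Red.gaFn (𝟙 G))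
  obtain ⟨u, hu⟩ := exists_over_hom (C : k →+* k[X]) G ψ (by ext c; simp [ψ])
  let v : specOver (C : k →+* k[X]) ⟶ G := gaPt (io.inv X)
  have huv : u ≫ v = 𝟙 G := gaFn_injective (by
    rw [gaFn_comp, gaFn_gaPt]
    exact (hu X).trans (eval₂_X _ _))
  let k₁ : RankComm14.ob (𝟙 S₀) k[X] ⟶ specOver (C : k →+* k[X]) := Over.homMk (𝟙 _) (by
    change 𝟙 _ ≫ Spec.map (CommRingCat.ofHom (C : k →+* k[X])) = Spec.map _ ≫ 𝟙 _
    rw [Category.id_comp, Category.comp_id]; rfl)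
  let k₂ : specOver (C : k →+* k[X]) ⟶ RankComm14.ob (𝟙 S₀) k[X] := Over.homMk (𝟙 _) (by
    change 𝟙 _ ≫ Spec.map _ ≫ 𝟙 _ = Spec.map (CommRingCat.ofHom (C : k →+* k[X]))
    rw [Category.id_comp, Category.comp_id]; rfl)
  have hk : k₂ ≫ k₁ = 𝟙 _ := Over.OverMorphism.ext (Category.id_comp _)
  have h1 : k₁ ≫ v ≫ g = 1 := by
    refine RankComm14.const_of_polynomial hT (𝟙 S₀) _ ?_
    have h0 : RankComm14.obMap (𝟙 S₀) (Polynomial.aeval (0 : k) : k[X] →ₐ[k] k) ≫ k₁ ≫ v = 1 := by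
      refine gaFn_injective ?_
      rw [gaFn_one, gaFn_comp, gaFn_comp, gaFn_gaPt]
      show (Spec.map (CommRingCat.ofHom (Polynomial.aeval (0 : k) : k[X] →ₐ[k] k).toRingHom)).appTop
        ((Scheme.Hom.appTop (𝟙 (Spec (CommRingCat.of k[X])))) (io.inv X)) = 0
      rw [Scheme.Hom.id_appTop, CommRingCat.id_apply, RankCell14.specMap_appTop]
      show (Scheme.ΓSpecIso (CommRingCat.of k)).inv (Polynomial.aeval (0 : k) X) = 0
      rw [aeval_X, map_zero]
    rw [← Category.assoc k₁, ← Category.assoc, h0, Hom.one_def, Category.assoc, hg, ← Hom.one_def]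
  have h2 : v ≫ g = 1 := by
    rw [← Category.id_comp (v ≫ g), ← hk, Category.assoc, h1, MonObj.comp_one]
  rw [← Category.id_comp g, ← huv, Category.assoc, h2, MonObj.comp_one]

/-- The additive group is the affine line. -/
theorem exists_iso_line : ∃ d : Over.mk (𝔸(PUnit.{u + 1}; S₀) ↘ S₀) ≅ Red.Ga S₀, True := by
  let e : (Red.Ga S₀).left ⟶ 𝔸(PUnit.{u + 1}; S₀) :=
    AffineSpace.homOfVector (Red.Ga S₀).hom fun _ => Red.gaFn (𝟙 (Red.Ga S₀))
  let d : Over.mk (𝔸(PUnit.{u + 1}; S₀) ↘ S₀) ⟶ Red.Ga S₀ := RedPts.gaPt (AffineSpace.coord S₀ PUnit.unit)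
  have hd : Red.gaFn d = AffineSpace.coord S₀ PUnit.unit := RedPts.gaFn_gaPt _
  let e' : Red.Ga S₀ ⟶ Over.mk (𝔸(PUnit.{u + 1}; S₀) ↘ S₀) := Over.homMk e (AffineSpace.homOfVector_over _ _)
  have he : e' ≫ d = 𝟙 _ := RedPts.gaFn_injective (by
    rw [RedPts.gaFn_comp, hd]
    exact AffineSpace.homOfVector_appTop_coord _ _ _)
  have hi : d.left ≫ e = 𝟙 _ := by
    refine AffineSpace.hom_ext ((Category.assoc _ _ _).trans ((congrArg (d.left ≫ ·) (AffineSpace.homOfVector_over _ _)).trans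
      ((Over.w d).trans (Category.id_comp _).symm)))
      fun i => ?_
    rw [Scheme.Hom.comp_appTop, CommRingCat.comp_apply, AffineSpace.homOfVector_appTop_coord, ← RedPts.gaFn_comp,
      Category.comp_id, hd]
    rfl
  exact ⟨⟨d, e', Over.OverMorphism.ext hi, he⟩, trivial⟩

theorem connectedSpace_Ga : ConnectedSpace (Red.Ga S₀).left := by
  obtain ⟨d, -⟩ := exists_iso_line (k := k)
  haveI : IsIso d.hom.left := inferInstanceAs (IsIso ((Over.forget _).map d.hom))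
  haveI : IsIntegral (Over.mk (𝔸(PUnit.{u + 1}; S₀) ↘ S₀)).left := inferInstanceAs (IsIntegral (𝔸(PUnit.{u + 1}; S₀)))
  exact d.hom.left.surjective.connectedSpace d.hom.left.continuous

/-- Morphisms from the additive group to a proper smooth connected group are constant. -/
theorem const_Ga_proper {B : Over S₀} [GrpObj B] [IsProper B.hom] [Smooth B.hom] [ConnectedSpace B.left]
    (f : Red.Ga S₀ ⟶ B) : ∃ c : 𝟙_ (Over S₀) ⟶ B, f = toUnit _ ≫ c := by
  haveI := NoTorus14.smooth_Ga S₀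
  haveI := IsogGaGm24.isAffineHom_Ga S₀
  haveI : IsAffine (Red.Ga S₀).left := isAffine_of_isAffineHom (Red.Ga S₀).hom
  haveI := connectedSpace_Ga (k := k)
  haveI : IsProper (𝟙_ (Over S₀)).hom := inferInstanceAs (IsProper (𝟙 S₀))
  let α : Red.Ga S₀ ⟶ 𝟙_ (Over S₀) := toUnit _
  haveI : Surjective α.left := ⟨fun _ => ⟨η[Red.Ga S₀].left (IsLocalRing.closedPoint k),
    Subsingleton.elim (α := PrimeSpectrum k) _ _⟩⟩
  haveI : Flat α.left := GrothLib.AlgSp.flat_to_field (α.left)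
  haveI : IsMonHom α := inferInstanceAs (IsMonHom (toUnit _))
  have hk : AlgGrp.IsKernel (𝟙 (Red.Ga S₀)) α := by
    show IsPullback _ _ _ _
    haveI : IsIso (η[𝟙_ (Over S₀)]) := ⟨𝟙 _, toUnit_unique _ _, toUnit_unique _ _⟩
    exact IsPullback.of_horiz_isIso ⟨toUnit_unique _ _⟩
  obtain ⟨g, hg, -⟩ := AlbTors16.existsUnique_albanese (𝟙 (Red.Ga S₀)) α hk f
  exact ⟨g, hg.symm⟩

/-- The additive group has two distinct rational points. -/
theorem mono_Ga_not_const {G : Over S₀} (f : Red.Ga S₀ ⟶ G) [Mono f] (c : 𝟙_ (Over S₀) ⟶ G) :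
    f ≠ toUnit _ ≫ c := by
  intro h
  let x : 𝟙_ (Over S₀) ⟶ Red.Ga S₀ := gaPt 1
  have hx : x = (1 : 𝟙_ (Over S₀) ⟶ Red.Ga S₀) := by
    rw [← cancel_mono f, h, ← Category.assoc, ← Category.assoc,
      toUnit_unique (x ≫ toUnit (Red.Ga S₀)) ((1 : 𝟙_ (Over S₀) ⟶ Red.Ga S₀) ≫ toUnit _)]
  have h2 := congrArg Red.gaFn hx
  rw [gaFn_gaPt, RedPts.gaFn_one] at h2
  haveI : Nontrivial Γ((𝟙_ (Over S₀)).left, ⊤) :=
    (Scheme.ΓSpecIso (CommRingCat.of k)).commRingCatIsoToRingEquiv.symm.injective.nontrivial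
  exact one_ne_zero h2

end GrothLib.SemiAb16
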