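import Groth.Agent.Lib.SemiAb16.Unip
import Groth.Agent.Lib.AffPart16.General
import Groth.Agent.Lib.Flag27.Small
import Groth.Agent.Lib.UnipFix19.Solvable

/-!
# Semi-abelian varieties are the groups without affine lines
-/

set_option autoImplicit false
set_option linter.all false
set_option backward.isDefEq.respectTransparency false
set_option maxHeartbeats 1000000
set_option synthInstance.maxHeartbeats 200000

universe u

open CategoryTheory CategoryTheory.Limits MonoidalCategory CartesianMonoidalCategory MonObj GrpObj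
open AlgebraicGeometry Topology

noncomputable section

namespace GrothLib.SemiAb16

attribute [-instance] Hom.commGroup Hom.commMonoid CommGrpObj.toIsCommMonObj

variable {k : Type u} [Field k] [IsAlgClosed k]

local notation "S₀" => Spec (CommRingCat.of k)

/-- A reduced group with commutative rational points is commutative. -/
theorem isCommMonObj_of_pts {G : Over (Spec (CommRingCat.of k))} [GrpObj G] [Smooth G.hom]
    (h : ∀ a b : 𝟙_ (Over (Spec (CommRingCat.of k))) ⟶ G, a * b = b * a) : IsCommMonObj G := by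
  haveI : IsSeparated G.hom := GrpSchField.isSeparated G
  haveI : IsReduced G.left := Rigidity.isReduced_of_smooth G.hom
  haveI : IsReduced (G ⊗ G).left := GrpSchField.isReduced_pullback G.hom G.hom
  haveI : LocallyOfFiniteType (G ⊗ G).hom :=
    inferInstanceAs (LocallyOfFiniteType (pullback.fst G.hom G.hom ≫ G.hom))
  constructor
  have e : (β_ G G).hom ≫ μ[G] = snd G G * fst G G := by
    rw [Hom.mul_def]
    congr 1
  rw [e, show μ[G] = fst G G * snd G G by rw [Hom.mul_def, lift_fst_snd, Category.id_comp]]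
  exact Rigidity.ext_of_points _ _ fun p => by rw [MonObj.comp_mul, MonObj.comp_mul, h]

/-- A smooth connected affine group containing no additive group is a torus. -/
theorem exists_torus_iso {N : Over (Spec (CommRingCat.of k))} [GrpObj N] [Smooth N.hom] [ConnectedSpace N.left]
    [IsAffine N.left] (hN : ∀ u : Red.Ga S₀ ⟶ N, ¬ Mono u) :
    ∃ (T : Over (Spec (CommRingCat.of k))) (_ : GrpObj T) (e : T ⟶ N), IsMonHom e ∧ IsIso e ∧ Red.IsTorus T := by
  obtain ⟨B, _, b, hB, -⟩ := Flag27.exists_borel (G := N)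
  obtain ⟨hb, hbc, hBs, hBc, hBsol, -⟩ := id hB
  haveI : Mono b := by
    haveI := hbc
    exact Over.mono_of_mono_left b
  haveI := hb; haveI := hbc; haveI := hBs; haveI := hBc
  haveI : IsAffine B.left := isAffine_of_isAffineHom b.left
  obtain ⟨D, _, U, _, p, s, u, r, hp, hs, hu, hsp, hDt, hDa, hDs, hDc, huc, hup, hur, hru, hUu, hUs, hUc⟩ :=
    Flag27.hasSplit_of_solvable (Flag27.isSolvable_points hBsol)
  haveI := hp; haveI := hs; haveI := hu; haveI := hDa; haveI := hDs; haveI := hDc; haveI := huc; haveI := hUs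
  haveI := hUc
  haveI : IsAffine U.left := hUu.isAffine
  haveI : IsIntegral U.left := Euler.isIntegral_of_smooth_connected k U.hom
  haveI : IsAffineHom U.hom := isAffineHom_of_isAffine _
  haveI : Mono u := Over.mono_of_mono_left u
  obtain ⟨n, hn⟩ := Chev24.exists_nat_dim (k := k) U
  have hn0 : n = 0 := by
    by_contra hne
    obtain ⟨v, hv⟩ := exists_Ga_mono n U hUu.isSolvable_points hUu.hasNoSubtorus hn hne
    haveI := hv
    exact hN (v ≫ u ≫ b) inferInstance
  haveI : Subsingleton U.left := by
    have h := GrothLib.Dim.subsingleton_of_dim_eq_zero (S := (Set.univ : Set U.left)) isClosed_univ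
      (IrreducibleSpace.isIrreducible_univ _)
      (((Homeomorph.Set.univ U.left).isHomeomorph.topologicalKrullDim_eq _).le.trans (by rw [hn, hn0]; exact_mod_cast le_rfl))
    exact Set.subsingleton_univ_iff.1 h
  haveI := Chev24.isIso_hom_of_subsingleton U
  have hU1 : 𝟙 U = 1 := Over.OverMorphism.ext ((cancel_mono U.hom).1 (by rw [Over.w, Over.w]))
  have hid : p ≫ s = 𝟙 B := by
    have h : r ≫ u = 1 := by rw [← Category.comp_id r, hU1, MonObj.comp_one, MonObj.one_comp]
    rw [h] at hru
    exact (mul_inv_eq_one.1 hru.symm).symm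
  haveI : IsIso s := ⟨p, hsp, hid⟩
  haveI : IsCommMonObj D := UnipFix19.isCommMonObj_torus hDt
  have hBcomm : ∀ x y : 𝟙_ (Over (Spec (CommRingCat.of k))) ⟶ B, x * y = y * x := fun x y => by
    haveI := (isCommMonObj_iff_isMulCommutative (M := D)).1 inferInstance (𝟙_ (Over (Spec (CommRingCat.of k))))
    have e : (x ≫ p) * (y ≫ p) = (y ≫ p) * (x ≫ p) := IsMulCommutative.is_comm.comm _ _
    have := congrArg (· ≫ s) e
    simpa only [MonObj.mul_comp, Category.assoc, hid, Category.comp_id] using this
  haveI : IsCommMonObj N := isCommMonObj_of_pts (Flag27.comm_of_borel_comm hB hBcomm)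
  haveI : IsClosedImmersion (𝟙 N : N ⟶ N).left := inferInstanceAs (IsClosedImmersion (𝟙 N.left))
  haveI : IsIso b := hB.2.2.2.2.2 N (𝟙 N) b inferInstance inferInstance inferInstance
    (UnipFix19.isSolvableGrp_of_comm N) (Category.comp_id b)
  exact ⟨D, inferInstance, s ≫ b, inferInstance, inferInstance, hDt⟩

/-- Semi-abelian varieties are the groups receiving only constant morphisms from the affine line. -/
theorem semiAbelian_iff (G : Over (Spec (CommRingCat.of k))) [GrpObj G] [Smooth G.hom] [QuasiCompact G.hom]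
    [ConnectedSpace G.left] :
    (∃ (T : Over (Spec (CommRingCat.of k))) (_ : GrpObj T) (i : T ⟶ G) (A : Over (Spec (CommRingCat.of k))) (_ : GrpObj A) (q : G ⟶ A),
        IsMonHom i ∧ IsClosedImmersion i.left ∧ Red.IsTorus T ∧ IsMonHom q ∧ Surjective q.left ∧ Flat q.left ∧
        AlgGrp.IsKernel i q ∧ IsProper A.hom ∧ Smooth A.hom ∧ ConnectedSpace ↥A.left) ↔
    ∀ f : Over.mk (𝔸(PUnit.{u + 1}; Spec (CommRingCat.of k)) ↘ Spec (CommRingCat.of k)) ⟶ G,
      ∃ g : 𝟙_ (Over (Spec (CommRingCat.of k))) ⟶ G, f = toUnit _ ≫ g := by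
  obtain ⟨d, -⟩ := exists_iso_line (k := k)
  haveI : IsSeparated G.hom := GrpSchField.isSeparated G
  constructor
  · rintro ⟨T, _, i, A, _, q, hi, hic, hT, hq, hqs, hqf, hk, hAp, hAs, hAc⟩ f
    haveI := hi; haveI := hic; haveI := hq; haveI := hAp; haveI := hAs; haveI := hAc
    haveI : Mono i := Over.mono_of_mono_left i
    let g₀ := d.inv ≫ f
    obtain ⟨c, hc⟩ := const_Ga_proper (g₀ ≫ q)
    let z := η[Red.Ga S₀] ≫ g₀
    have hz : z ≫ q = c := by
      simp only [z, Category.assoc, hc]
      rw [← Category.assoc, toUnit_unique (η[Red.Ga S₀] ≫ toUnit _) (𝟙 _), Category.id_comp]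
    obtain ⟨l, hl⟩ := GrpSchField.exists_lift_of_comp_eq_one hk (g₀ * (toUnit _ ≫ z)⁻¹) (by
      rw [MonObj.mul_comp, GrpObj.inv_comp, hc, Category.assoc, hz, mul_inv_cancel])
    have hl1 : l = 1 := pointed_Ga_torus hT l (by
      rw [← cancel_mono i, Category.assoc, hl, IsMonHom.one_hom (f := i), MonObj.comp_mul, GrpObj.comp_inv,
        ← Category.assoc η[Red.Ga S₀] (toUnit _), toUnit_unique (η[Red.Ga S₀] ≫ toUnit _) (𝟙 _), Category.id_comp,
        mul_inv_cancel, Hom.one_def, toUnit_unique (toUnit _) (𝟙 _), Category.id_comp])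
    rw [hl1, MonObj.one_comp] at hl
    refine ⟨z, ?_⟩
    rw [← Category.id_comp f, ← d.hom_inv_id, Category.assoc]
    show d.hom ≫ g₀ = _
    rw [mul_inv_eq_one.1 hl.symm, ← Category.assoc, toUnit_unique (d.hom ≫ toUnit _) (toUnit _)]
  · intro hf
    obtain ⟨N, _, i, hi, hic, hNs, hNc, hNa, hNn, hmax⟩ := Chev24.exists_affPart (G := G)
    haveI := hi; haveI := hic; haveI := hNs; haveI := hNc; haveI := hNa
    haveI : Mono i := Over.mono_of_mono_left i
    obtain ⟨Q, _, q, hq, hQs, hQq, hqf, hqs, -, hker⟩ := Chev24.exists_quot i hNn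
    haveI := hq; haveI := hQs; haveI := hQq; haveI := hqf; haveI := hqs
    haveI := Chev24.isProper_quotient i hmax q hker
    obtain ⟨T, _, e, he, hei, hT⟩ := exists_torus_iso (N := N) fun v hv => by
      haveI := hv
      obtain ⟨g, hg⟩ := hf (d.hom ≫ v ≫ i)
      refine mono_Ga_not_const (v ≫ i) g ?_
      rw [← cancel_epi d.hom, hg, ← Category.assoc, toUnit_unique (d.hom ≫ toUnit _) (toUnit _)]
    haveI := he; haveI := hei
    haveI : IsIso e.left := inferInstanceAs (IsIso ((Over.forget _).map e))
    refine ⟨T, inferInstance, e ≫ i, Q, inferInstance, q, inferInstance,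
      inferInstanceAs (IsClosedImmersion (e.left ≫ i.left)), hT, hq, hqs, hqf, ?_, inferInstance, hQs,
      q.left.surjective.connectedSpace q.left.continuous⟩
    exact IsPullback.of_iso hker (asIso e).symm (Iso.refl _) (Iso.refl _) (Iso.refl _) (by simp) (toUnit_unique _ _)
      (by simp) (by simp)

end GrothLib.SemiAb16
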