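import Groth.Agent.Lib.SemiAb16.GaLine
import Groth.Agent.Lib.AffPart16.Basic
import Groth.Agent.Lib.Flag27.UnipSplit
import Groth.Agent.Lib.SplitTors24.Bridge
import Groth.Agent.Lib.SplitTors24.Coord
import Groth.Agent.Lib.HopfAG.UnipPrim
import Groth.Agent.Lib.Flag27.GeomPt
import Groth.Agent.S12500

/-!
# Non-trivial smooth connected unipotent groups contain the additive group
-/

set_option autoImplicit false
set_option linter.all false
set_option backward.isDefEq.respectTransparency false
set_option maxHeartbeats 1000000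
set_option synthInstance.maxHeartbeats 200000

universe u

open CategoryTheory CategoryTheory.Limits MonoidalCategory CartesianMonoidalCategory MonObj GrpObj
open AlgebraicGeometry Topology
open GrothLib.MultHopf14 GrothLib.MultDef14 GrothLib.CentMT14
open scoped TensorProduct

noncomputable section

namespace GrothLib.SemiAb16

variable {k : Type u} [Field k] [IsAlgClosed k]

local notation "S₀" => Spec (CommRingCat.of k)

theorem isIso_of_trivial {U : Over (Spec (CommRingCat.of k))} [GrpObj U] (h : 𝟙 U = 1) : Subsingleton U.left := by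
  refine ⟨fun x y => ?_⟩
  haveI : Subsingleton ↥(𝟙_ (Over (Spec (CommRingCat.of k)))).left := inferInstanceAs (Subsingleton (PrimeSpectrum k))
  have e : ∀ z : U.left, z = η[U].left ((toUnit U).left z) := fun z => by
    rw [← Scheme.Hom.comp_apply, ← Over.comp_left, ← Hom.one_def, ← h]
    rfl
  rw [e x, e y, Subsingleton.elim ((toUnit U).left x) ((toUnit U).left y)]

/-- A non-trivial unipotent group has a non-trivial homomorphism to the additive group. -/
theorem exists_hom_line {U : Over (Spec (CommRingCat.of k))} [GrpObj U] (hU : Flag27.IsUnip k U) (h1 : 𝟙 U ≠ 1) :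
    ∃ φ : U ⟶ specGrp (R := k) (SymmetricAlgebra k k), IsMonHom φ ∧ φ ≠ 1 := by
  obtain ⟨A, _, _, -, hA, ⟨e⟩⟩ := hU
  let i : specGrp (R := k) A ≅ U := (Grp.forget _).mapIso e
  haveI : IsMonHom i.inv := e.inv.hom.isMonHom_hom
  haveI : IsMonHom i.hom := e.hom.hom.isMonHom_hom
  have hne : ∃ a : A, Coalgebra.counit (R := k) a = 0 ∧ a ≠ 0 := by
    by_contra hall
    push Not at hall
    refine h1 ?_
    have hid : ∀ a : A, (BialgHom.id k A) a = algebraMap k A (Coalgebra.counit (R := k) a) := fun a => by
      have h0 := hall (a - algebraMap k A (Coalgebra.counit (R := k) a)) (by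
        rw [map_sub, Bialgebra.counit_algebraMap, sub_self])
      exact sub_eq_zero.1 h0
    have h2 := Flag27.specMap_eq_one _ hid
    have h3 : specMap (BialgHom.id k A) = 𝟙 _ := Over.OverMorphism.ext (by
      rw [specMap_left]; exact Spec.map_id _)
    rw [h3] at h2
    calc 𝟙 U = i.inv ≫ (𝟙 _) ≫ i.hom := by rw [Category.id_comp, i.inv_hom_id]
      _ = 1 := by rw [h2, MonObj.one_comp, MonObj.comp_one]
  obtain ⟨x, hx0, hx⟩ := GrothLib.Unip.exists_primitive hA hne
  let f : SymmetricAlgebra k k →ₐ[k] A := SymmetricAlgebra.lift (LinearMap.toSpanSingleton k A x)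
  have hf : f (SymmetricAlgebra.ι k k 1) = x := by simp [f]
  have hxe : Coalgebra.counit (R := k) x = 0 :=
    Groth.Agent.Lib.DimOne16.IsPrim.counit (k := k) (show Groth.Agent.Lib.DimOne16.IsPrim k x from hx)
  let φ : SymmetricAlgebra k k →ₐc[k] A := BialgHom.ofAlgHom f
    (SymmetricAlgebra.algHom_ext (LinearMap.ext_ring (by
      change Coalgebra.counit (R := k) (f (SymmetricAlgebra.ι k k 1)) =
        Coalgebra.counit (R := k) (SymmetricAlgebra.ι k k (1 : k))
      rw [hf, SymmetricAlgebra.counit_ι]
      exact hxe)))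
    (SymmetricAlgebra.algHom_ext (LinearMap.ext_ring (by
      change Algebra.TensorProduct.map f f (Coalgebra.comul (R := k) (SymmetricAlgebra.ι k k (1 : k))) =
        Coalgebra.comul (R := k) (f (SymmetricAlgebra.ι k k 1))
      rw [SymmetricAlgebra.comul_ι, map_add, Algebra.TensorProduct.map_tmul, Algebra.TensorProduct.map_tmul,
        hf, map_one, show Coalgebra.comul (R := k) x = _ from hx])))
  refine ⟨i.inv ≫ specMap φ, inferInstance, fun h => hx0 ?_⟩
  have h4 : specMap φ = 1 := by
    rw [← cancel_epi i.inv, h, MonObj.comp_one]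
  have h5 := congrArg (fun w => w.left) h4
  simp only [specMap_left, one_left] at h5
  replace h5 : Spec.map (CommRingCat.ofHom (φ : SymmetricAlgebra k k →+* A)) =
      Spec.map (CommRingCat.ofHom (algebraMap k A)) ≫
        Spec.map (CommRingCat.ofHom (Bialgebra.counitAlgHom k (SymmetricAlgebra k k)).toRingHom) := h5
  rw [← Spec.map_comp, ← CommRingCat.ofHom_comp] at h5
  have h6 := RingHom.congr_fun (congrArg CommRingCat.Hom.hom (Spec.map_injective h5)) (SymmetricAlgebra.ι k k 1)
  calc x = f (SymmetricAlgebra.ι k k 1) := hf.symm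
    _ = algebraMap k A (Coalgebra.counit (R := k) (SymmetricAlgebra.ι k k (1 : k))) := h6
    _ = 0 := by rw [SymmetricAlgebra.counit_ι, map_zero]

theorem isSolvable_of_mono {H G : Over (Spec (CommRingCat.of k))} [GrpObj H] [GrpObj G] (j : H ⟶ G) [IsMonHom j] [Mono j]
    (hG : Group.IsSolvable (𝟙_ (Over (Spec (CommRingCat.of k))) ⟶ G)) :
    Group.IsSolvable (𝟙_ (Over (Spec (CommRingCat.of k))) ⟶ H) := by
  haveI := hG
  let f : (𝟙_ (Over (Spec (CommRingCat.of k))) ⟶ H) →* (𝟙_ (Over (Spec (CommRingCat.of k))) ⟶ G) :=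
    MonoidHom.mk' (fun x => x ≫ j) fun a b => MonObj.mul_comp a b j
  exact solvable_of_solvable_injective (f := f) fun a b h => (cancel_mono j).1 h

theorem hasNoSubtorus_of_mono {H G : Over (Spec (CommRingCat.of k))} [GrpObj H] [GrpObj G] (j : H ⟶ G) [IsMonHom j] [Mono j]
    (hG : Red.HasNoSubtorus k G) : Red.HasNoSubtorus k H := fun T _ t _ _ hT => hG T (t ≫ j) hT

/-- A non-trivial smooth connected solvable affine group without tori contains the additive group. -/
theorem exists_Ga_mono : ∀ (n : ℕ) (U : Over (Spec (CommRingCat.of k))) [GrpObj U] [IsAffine U.left] [Smooth U.hom]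
    [ConnectedSpace U.left], Group.IsSolvable (𝟙_ (Over (Spec (CommRingCat.of k))) ⟶ U) → Red.HasNoSubtorus k U →
    topologicalKrullDim U.left = n → n ≠ 0 → ∃ u : Red.Ga S₀ ⟶ U, Mono u := by
  intro n
  induction n using Nat.strong_induction_on with
  | _ n ih =>
  intro U _ _ _ _ hs hnt hn hn0
  haveI : IsIntegral U.left := Euler.isIntegral_of_smooth_connected k U.hom
  haveI : IsReduced U.left := Rigidity.isReduced_of_smooth U.hom
  haveI : IsAffineHom U.hom := isAffineHom_of_isAffine _
  haveI : QuasiCompact U.hom := inferInstance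
  haveI : IsSeparated U.hom := GrpSchField.isSeparated U
  have hne : ¬ Subsingleton U.left := fun hss => by
    haveI := hss
    have := Chev24.dim_le_zero_of_subsingleton (X := U.left)
    rw [hn] at this
    exact hn0 (Nat.le_zero.1 (by exact_mod_cast this))
  have h1 : 𝟙 U ≠ 1 := fun h => hne (isIso_of_trivial h)
  by_cases hn1 : n = 1
  · subst hn1
    rcases Groth.Agent.S12500.result k U (by exact_mod_cast hn) with ⟨⟨e⟩⟩ | ⟨⟨e⟩⟩ | ⟨hp, -⟩
    · exact ⟨((Grp.forget _).mapIso e).inv, inferInstance⟩
    · exfalso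
      have hT : Red.IsTorus U := Flag27.isTorus_of_grpIso e.symm (RankCell14.isTorus_Gm (Spec (CommRingCat.of k)))
      have h := hnt U (𝟙 U) hT
      haveI : IsIso U.hom := h
      exact h1 (Over.OverMorphism.ext ((cancel_mono U.hom).1 (by rw [Over.w, Over.w])))
    · exfalso
      haveI := hp
      exact h1 (AlbTors16.hom_eq_one_affine_proper (𝟙 U))
  obtain ⟨φ, hφ, hφ1⟩ := exists_hom_line (Flag27.isUnip_of_solvable_noSubtorus hs hnt) h1
  haveI := hφ
  let V := specGrp (R := k) (SymmetricAlgebra k k)
  haveI : IsAffine V.left := inferInstanceAs (IsAffine (Spec (CommRingCat.of (SymmetricAlgebra k k))))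
  haveI : LocallyOfFiniteType V.hom := by
    haveI : Algebra.FiniteType k (SymmetricAlgebra k k) :=
      Algebra.FiniteType.equiv inferInstance (SymmetricAlgebra.equivMvPolynomial (Module.Basis.singleton (Fin 1) k)).symm
    exact (HasRingHomProperty.Spec_iff (P := @LocallyOfFiniteType)).2 (RingHom.finiteType_algebraMap.2 ‹_›)
  haveI : IsSeparated V.hom := GrpSchField.isSeparated V
  haveI : QuasiCompact φ.left := by
    haveI : QuasiCompact (φ.left ≫ V.hom) := by rw [Over.w φ]; infer_instance
    exact QuasiCompact.of_comp _ V.hom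
  have hdim := Neutral.dim_eq_add_field φ
  have hrange : topologicalKrullDim (Set.range φ.left) ≤ 1 :=
    (IsEmbedding.subtypeVal.topologicalKrullDim_le).trans (by
      show topologicalKrullDim (PrimeSpectrum (SymmetricAlgebra k k)) ≤ 1
      rw [PrimeSpectrum.topologicalKrullDim_eq_ringKrullDim]
      exact SplitTors24.dim_sym_le k)
  -- the kernel
  let K := pullback φ η[V]
  let iK : K ⟶ U := pullback.fst φ η[V]
  have hK : AlgGrp.IsKernel iK φ := by
    show IsPullback _ _ _ _
    rw [Subsingleton.elim (toUnit _) (pullback.snd φ η[V])]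
    exact IsPullback.of_hasPullback φ η[V]
  obtain ⟨_, _⟩ := GrpDeligne.exists_grpObj_kernel φ iK hK
  have hsqK := (IsPullback.of_hasPullback φ η[V]).map (Over.forget _)
  haveI := GrothLib.GrpSchField.unit_isClosedImmersion V
  haveI : IsClosedImmersion iK.left :=
    MorphismProperty.of_isPullback hsqK.flip (inferInstanceAs (IsClosedImmersion η[V].left))
  haveI : LocallyOfFiniteType K.hom := by rw [← Over.w iK]; infer_instance
  haveI : QuasiCompact K.hom := by rw [← Over.w iK]; infer_instance
  obtain ⟨K₀, _, jK, hjK, hjKc, hKs, hKc, hKdim, -⟩ := Chev24.exists_redNeutral K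
  haveI := hjK; haveI := hjKc; haveI := hKs; haveI := hKc
  let j₀ : K₀ ⟶ U := jK ≫ iK
  haveI : IsClosedImmersion j₀.left := inferInstanceAs (IsClosedImmersion (jK.left ≫ iK.left))
  haveI : IsMonHom j₀ := inferInstanceAs (IsMonHom (jK ≫ iK))
  haveI : Mono j₀ := Over.mono_of_mono_left j₀
  haveI : IsAffine K₀.left := isAffine_of_isAffineHom j₀.left
  haveI : IsIntegral K₀.left := Euler.isIntegral_of_smooth_connected k K₀.hom
  haveI : QuasiCompact K₀.hom := by rw [← Over.w j₀]; infer_instance
  obtain ⟨m, hm⟩ := Chev24.exists_nat_dim (k := k) K₀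
  have hKK : topologicalKrullDim ↥(pullback φ.left η[V].left) = topologicalKrullDim K.left :=
    (IsHomeomorph.topologicalKrullDim_eq _ hsqK.isoPullback.hom.homeomorph.isHomeomorph).symm
  rw [hKK, ← hKdim, hm, hn] at hdim
  have hirr : IsIrreducible (Set.range φ.left) := by
    rw [← Set.image_univ]
    exact (IrreducibleSpace.isIrreducible_univ _).image _ φ.left.continuous.continuousOn
  haveI : IrreducibleSpace ↥(Set.range φ.left) := Subtype.irreducibleSpace hirr
  haveI : Nonempty (TopologicalSpace.IrreducibleCloseds ↥(Set.range φ.left)) :=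
    ⟨⟨Set.univ, IrreducibleSpace.isIrreducible_univ _, isClosed_univ⟩⟩
  obtain ⟨r, hr, hr1⟩ : ∃ r : ℕ, topologicalKrullDim (Set.range φ.left) = r ∧ r ≤ 1 := by
    have h0 : 0 ≤ topologicalKrullDim (Set.range φ.left) := Order.krullDim_nonneg
    generalize hd : topologicalKrullDim ↥(Set.range φ.left) = d at hrange h0 ⊢
    induction d using WithBot.recBotCoe with
    | bot => simp at h0
    | coe a =>
      induction a using ENat.recTopCoe with
      | top => exact absurd (WithBot.coe_le_coe.1 hrange : (⊤ : ℕ∞) ≤ 1) (by simp)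
      | coe r => exact ⟨r, rfl, by exact_mod_cast hrange⟩
  rw [hr] at hdim
  have hnm : n = r + m := by exact_mod_cast hdim
  rcases Nat.eq_zero_or_pos r with rfl | hr0
  · exfalso
    refine hφ1 ?_
    have hcl : IsClosed (Set.range φ.left) := by
      obtain ⟨I, _, p, jI, hp, hjI, hpj, hps, -, -, hm', hI, -⟩ := Neutral.exists_factor_field φ
      haveI := hjI; haveI := hps; haveI := hm'; haveI := hI
      haveI := (Neutral.isClosedImmersion_factor φ hpj).1
      rw [← hpj, Over.comp_left, Scheme.Hom.comp_base, TopCat.coe_comp, Set.range_comp, p.left.surjective.range_eq,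
        Set.image_univ]
      exact jI.left.isClosedEmbedding.isClosed_range
    haveI : CompactSpace V.left := inferInstance
    have hsub := GrothLib.Dim.subsingleton_of_dim_eq_zero (S := Set.range φ.left) hcl hirr (by rw [hr]; exact_mod_cast le_rfl)
    refine Rigidity.ext_of_points φ 1 fun q => ?_
    rw [MonObj.comp_one]
    refine Flag27.eq_of_cl ?_
    refine hsub ?_ ?_
    · exact ⟨_, (Flag27.cl_comp _ φ).symm⟩
    · exact ⟨Flag27.cl (1 : 𝟙_ (Over (Spec (CommRingCat.of k))) ⟶ U), by rw [← Flag27.cl_comp, MonObj.one_comp]⟩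
  obtain ⟨u, hu⟩ := ih m (by omega) K₀ (isSolvable_of_mono j₀ hs) (hasNoSubtorus_of_mono j₀ hnt) hm (by omega)
  haveI := hu
  exact ⟨u ≫ j₀, inferInstance⟩

end GrothLib.SemiAb16
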